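import Cfsg.Agent.H123.Cls.FiOre

/-!
# `Fi₂₂` has at most 118 conjugacy classes (helper878)

59 classes under `Fi₂₂ : 2` (helper123), each of them at most two classes of `Fi₂₂`.
-/

set_option autoImplicit false
set_option maxRecDepth 100000

namespace Cfsg.Agent.H878.EPX.FiK

open Equiv Cfsg Cfsg.Spor Cfsg.Agent.H123.Cls Cfsg.Agent.Lib.BitNet Cfsg.Agent.H123.Cls.FiDat
open Cfsg.Agent.H494.F22 (A N A_conj card_A card_N N_le_A A_le_Aut rho rho_of rho_injective tau tau_sq tau_inv
  tau_conj_mem)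

/-- `N ∪ N τ` -/
noncomputable def K : Subgroup (Perm (Fin 3510)) where
  carrier := {b | b ∈ N ∨ b * tau ∈ N}
  one_mem' := Or.inl N.one_mem
  mul_mem' := by
    rintro a b (ha | ha) (hb | hb)
    · exact Or.inl (N.mul_mem ha hb)
    · exact Or.inr (by rw [mul_assoc]; exact N.mul_mem ha hb)
    · right
      have h1 := N.mul_mem ha (tau_conj_mem hb)
      rw [tau_inv] at h1
      have h2 : a * tau * (tau * b * tau) = a * b * tau := by
        calc a * tau * (tau * b * tau) = a * (tau * tau) * b * tau := by group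
          _ = a * b * tau := by rw [tau_sq, mul_one]
      rwa [h2] at h1
    · left
      have h1 := N.mul_mem ha (tau_conj_mem hb)
      rw [tau_inv] at h1
      have h2 : a * tau * (tau * (b * tau) * tau) = a * b := by
        calc a * tau * (tau * (b * tau) * tau) = a * (tau * tau) * b * (tau * tau) := by group
          _ = a * b := by rw [tau_sq, mul_one, mul_one]
      rwa [h2] at h1
  inv_mem' := by
    rintro a (ha | ha)
    · exact Or.inl (N.inv_mem ha)
    · right
      have h1 := tau_conj_mem (N.inv_mem ha)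
      rw [tau_inv, mul_inv_rev, tau_inv] at h1
      have h2 : tau * (tau * a⁻¹) * tau = a⁻¹ * tau := by
        rw [← mul_assoc, tau_sq, one_mul]
      rwa [h2] at h1

theorem A_le : A ≤ K := by
  refine sup_le (fun n hn => Or.inl hn) ?_
  rw [Subgroup.zpowers_le]
  right
  rw [tau_sq]
  exact N.one_mem

theorem len_D : D.length = 59 := by decide +kernel

/-- **`k(Fi₂₂) ≤ 118`** -/
theorem k_le : Nat.card (ConjClasses Spor.Fi22) ≤ 118 := by
  classical
  have hr : ∀ i : Fin D.length, ∃ g : Spor.Fi22, ∀ p : Fin 3510, (rho g p : ℕ) = lk 12 (D[i.1]).1 p := by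
    intro i
    obtain ⟨r, ⟨g, hg⟩, h⟩ := D_mem _ (List.getElem_mem i.2)
    exact ⟨g, fun p => by rw [hg]; exact h p⟩
  choose g hg using hr
  have ht : ∀ x : Spor.Fi22, ∃ y : Spor.Fi22, rho y = tau * rho x * tau⁻¹ := fun x => tau_conj_mem ⟨x, rfl⟩
  choose f hf using ht
  let φ : Fin D.length × Bool → ConjClasses Spor.Fi22 := fun p => ConjClasses.mk (if p.2 then f (g p.1) else g p.1)
  have hφ : Function.Surjective φ := by
    intro c
    obtain ⟨x, rfl⟩ := ConjClasses.exists_rep c
    · obtain ⟨d, hd, r, -, hrt, b, hb, h⟩ := fi_cover (rho x) ⟨x, rfl⟩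
      obtain ⟨i, hi, rfl⟩ := List.mem_iff_getElem.1 hd
      have h1 : r = rho (g ⟨i, hi⟩) := perm_eq_of_tab hrt (hg ⟨i, hi⟩)
      rcases A_le hb with ⟨n, hn⟩ | ⟨n, hn⟩
      · refine ⟨(⟨i, hi⟩, false), ?_⟩
        show ConjClasses.mk (g ⟨i, hi⟩) = ConjClasses.mk x
        rw [ConjClasses.mk_eq_mk_iff_isConj, isConj_iff]
        refine ⟨n, rho_injective ?_⟩
        rw [map_mul, map_mul, map_inv, hn, ← h1, ← h]
      · refine ⟨(⟨i, hi⟩, true), ?_⟩
        show ConjClasses.mk (f (g ⟨i, hi⟩)) = ConjClasses.mk x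
        rw [ConjClasses.mk_eq_mk_iff_isConj, isConj_iff]
        refine ⟨n, rho_injective ?_⟩
        rw [map_mul, map_mul, map_inv, hf, hn, ← h1, h, mul_inv_rev, tau_inv]
        calc b * tau * (tau * r * tau) * (tau * b⁻¹) = b * (tau * tau) * r * (tau * tau) * b⁻¹ := by group
          _ = b * r * b⁻¹ := by rw [tau_sq]; group
  have h1 := Nat.card_le_card_of_surjective φ hφ
  have h2 : Nat.card (Fin D.length) = 59 := by rw [Nat.card_fin, len_D]
  have h3 : Nat.card Bool = 2 := by rw [Nat.card_eq_fintype_card, Fintype.card_bool]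
  rw [Nat.card_prod, h2, h3] at h1
  exact h1

end Cfsg.Agent.H878.EPX.FiK
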