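import Cfsg.Agent.H878.EPX.E7Fi
import Cfsg.Agent.ChevalleyStructure.Elts

/-!
# S5745: the field `e7_3_Fi22` of `H805.EPX.Rows` from the class bounds of `E₇(3)` (helper878)
-/

set_option autoImplicit false

namespace Cfsg.Agent.H878.EPX

open Cfsg Cfsg.Agent.H284 Cfsg.Agent.H209.EPX Cfsg.Agent.H742.EX Cfsg.Agent.H805.EPX

/-- the class bounds of `E₇(3)` (helper373) -/
def CE7 : Prop := ∀ (F : Type) [Field F] [Fintype F], Fintype.card F = 3 → ∀ x : ↥(Lie.chevE7.group F),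
  (orderOf x = 2 → 2 ^ 56 ≤ cG x) ∧ (orderOf x = 5 → 2 ^ 100 ≤ cG x) ∧ (orderOf x = 7 → 2 ^ 100 ≤ cG x) ∧
    (orderOf x = 11 → 2 ^ 100 ≤ cG x) ∧ (orderOf x = 13 → 2 ^ 100 ≤ cG x)

/-- **the field** -/
theorem e7_3_Fi22_of (hC : CE7) : ∀ (F : Type) [Field F] [Fintype F] [IsSimpleGroup ↥(Lie.chevE7.group F)],
    Fintype.card F = 3 → NoRow (fun T _ => Spor.IsoFi22 T) ↥(Lie.chevE7.group F) := by
  intro F _ _ _ hF H N T _ e h hT
  have hfin : Finite ↥(Lie.chevE7.group F) := inferInstance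
  refine row h hT (fun x hx => (hC F hF x).1 hx) ?_
  intro r hr x hx
  obtain ⟨-, h5, h7, h11, h13⟩ := hC F hF x
  simp only [Finset.mem_insert, Finset.mem_singleton] at hr
  rcases hr with rfl | rfl | rfl | rfl
  · exact h5 hx
  · exact h7 hx
  · exact h11 hx
  · exact h13 hx

end Cfsg.Agent.H878.EPX
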