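import Cfsg.Agent.H878.EPX.Outer
import Cfsg.Agent.H878.EPX.FiK
import Cfsg.Agent.H956.EPX.FiN
import Cfsg.Agent.H686.EX.Kill
import Cfsg.Agent.H742.EX.NoS
import Cfsg.Agent.H805.EPX.Base
import Cfsg.Agent.H805.EPX.Rows
import Cfsg.Agent.Fischer.Fi22Order

/-!
# S5745: no stabilizer with socle `Fi₂₂` in a group with large classes (helper878)

`row` : `G` finite, every involution has at least `2 ^ 56` conjugates, every element of order 5, 7, 11, 13 at least
`2 ^ 100`: no `EPS H N e` with `T ≅ Fi₂₂`. The primes of `H ∩ Hᵍ` other than 3 (helper742, `not_odd_pgroup`).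
-/

set_option autoImplicit false

namespace Cfsg.Agent.H878.EPX

open Subgroup Cfsg Cfsg.Agent.H284 Cfsg.Agent.H209.EPX Cfsg.Agent.H742.EX Cfsg.Agent.H686.EX

variable {G : Type} [Group G] [Finite G] {H N : Subgroup G} {T : Type} [Group T] {e : N ≃* (Fin 1 → T)}

theorem card_fi : Nat.card Spor.Fi22 = 64561751654400 := Cfsg.Agent.Fischer.Fi22Order.card_fi22

/-- the number of involutions of `H` -/
theorem card_el_two (h : EPS H N e) (eT : T ≃* Spor.Fi22)
    (hH : Nat.card H = Nat.card T ∨ Nat.card H = 2 * Nat.card T) : (el H 2).card ≤ 37706175 + 87283002 := by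
  classical
  have hN : NIn N H := h.toNIn
  let e' : N ≃* Spor.Fi22 := (e.trans (MulEquiv.funUnique (Fin 1) T)).trans eT
  have hcN : Nat.card N = Nat.card T := Nat.card_congr (e.trans (MulEquiv.funUnique (Fin 1) T)).toEquiv
  have hT0 : 0 < Nat.card N := Nat.card_pos
  -- the index
  have hidx : N.relIndex H = 1 ∨ N.relIndex H = 2 := by
    have h2 : Nat.card N * N.relIndex H = Nat.card H := by
      have h3 := (N.subgroupOf H).card_mul_index
      rwa [Nat.card_congr (Subgroup.subgroupOfEquivOfLe hN.le).toEquiv] at h3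
    rw [← hcN] at hH
    rcases hH with h3 | h3
    · left
      rw [h3] at h2
      exact Nat.eq_of_mul_eq_mul_left hT0 (by rw [h2, mul_one])
    · right
      rw [h3, mul_comm 2] at h2
      exact Nat.eq_of_mul_eq_mul_left hT0 h2
  have h2 : ∀ a ∈ H, a ∉ N → ∀ b ∈ H, b ∉ N → a * b ∈ N := by
    intro a ha haN b hb hbN
    have e1 : (⟨a, ha⟩ : H) ∉ N.subgroupOf H := fun h => haN h
    have e2 : (⟨b, hb⟩ : H) ∉ N.subgroupOf H := fun h => hbN h
    rcases hidx with h3 | h3
    · exfalso
      have h4 : (N.subgroupOf H) = ⊤ := Subgroup.index_eq_one.1 h3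
      exact e1 (by rw [h4]; trivial)
    · have h4 := (Subgroup.mul_mem_iff_of_index_two h3 (a := (⟨a, ha⟩ : H)) (b := ⟨b, hb⟩)).2
        ⟨fun h => absurd h e1, fun h => absurd h e2⟩
      exact h4
  -- inside `N`
  have hin : {t : G | t ∈ N ∧ orderOf t = 2}.ncard ≤ 37706175 := by
    have h3 := Cfsg.Agent.H956.EPX.FiN.card_le (r := 2) (by simp) e'
    have h4 : {t : G | t ∈ N ∧ orderOf t = 2} = Subtype.val '' {g : N | orderOf g = 2} := by
      ext t
      constructor
      · rintro ⟨ht, ho⟩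
        exact ⟨⟨t, ht⟩, by show orderOf (⟨t, ht⟩ : N) = 2; rw [← Subgroup.orderOf_coe]; exact ho, rfl⟩
      · rintro ⟨g, hg, rfl⟩
        refine ⟨g.2, ?_⟩
        rw [Subgroup.orderOf_coe]
        exact hg
    rw [h4, Set.ncard_image_of_injective _ Subtype.val_injective]
    exact h3
  -- outside `N`
  have hout : {t : G | t ∈ H ∧ t ∉ N ∧ t * t = 1}.ncard ≤ 87283002 := by
    have h3 := ncard_sq_le H N h2
    have h4 : Nat.card (ConjClasses N) ≤ 118 := by
      have h5 : Function.Surjective (ConjClasses.map e'.symm.toMonoidHom) :=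
        ConjClasses.map_surjective e'.symm.surjective
      have hf : Finite Spor.Fi22 := Finite.of_equiv N e'.toEquiv
      have hf' : Finite (ConjClasses Spor.Fi22) := inferInstance
      exact (Nat.card_le_card_of_surjective _ h5).trans FiK.k_le
    have h5 : Nat.card N = 64561751654400 := by
      rw [Nat.card_congr e'.toEquiv, card_fi]
    rw [h5] at h3
    have h6 : {t : G | t ∈ H ∧ t ∉ N ∧ t * t = 1}.ncard ^ 2 ≤ 118 * 64561751654400 :=
      h3.trans (Nat.mul_le_mul_right _ h4)
    by_contra hcon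
    push Not at hcon
    have h7 := Nat.pow_le_pow_left hcon.le 2
    norm_num at h6 h7
    omega
  -- together
  have hsub : ((el H 2 : Finset G) : Set G) ⊆ {t : G | t ∈ N ∧ orderOf t = 2} ∪ {t : G | t ∈ H ∧ t ∉ N ∧ t * t = 1} := by
    intro t ht
    obtain ⟨ht1, ht2⟩ := mem_el.1 (Finset.mem_coe.1 ht)
    by_cases htN : t ∈ N
    · exact Or.inl ⟨htN, ht2⟩
    · refine Or.inr ⟨ht1, htN, ?_⟩
      have h3 := pow_orderOf_eq_one t
      rwa [ht2, pow_two] at h3
  rw [← Set.ncard_coe_finset]
  refine (Set.ncard_le_ncard hsub (Set.toFinite _)).trans ((Set.ncard_union_le _ _).trans (Nat.add_le_add hin hout))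

theorem prime_cases {r : ℕ} (hr : r.Prime) (h3 : r ≠ 3) (hd : r ∣ 2 * 64561751654400) :
    r ∈ ({2, 5, 7, 11, 13} : Finset ℕ) := by
  have h1 : 2 * 64561751654400 = 2 ^ 18 * 3 ^ 9 * 5 ^ 2 * 7 * 11 * 13 := by norm_num
  rw [h1] at hd
  simp only [Finset.mem_insert, Finset.mem_singleton]
  rcases (Nat.Prime.dvd_mul hr).1 hd with hd | hd
  · rcases (Nat.Prime.dvd_mul hr).1 hd with hd | hd
    · rcases (Nat.Prime.dvd_mul hr).1 hd with hd | hd
      · rcases (Nat.Prime.dvd_mul hr).1 hd with hd | hd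
        · rcases (Nat.Prime.dvd_mul hr).1 hd with hd | hd
          · exact Or.inl ((Nat.prime_dvd_prime_iff_eq hr Nat.prime_two).1 (hr.dvd_of_dvd_pow hd))
          · exact absurd ((Nat.prime_dvd_prime_iff_eq hr Nat.prime_three).1 (hr.dvd_of_dvd_pow hd)) h3
        · exact Or.inr (Or.inl ((Nat.prime_dvd_prime_iff_eq hr Nat.prime_five).1 (hr.dvd_of_dvd_pow hd)))
      · exact Or.inr (Or.inr (Or.inl ((Nat.prime_dvd_prime_iff_eq hr (by norm_num)).1 hd)))
    · exact Or.inr (Or.inr (Or.inr (Or.inl ((Nat.prime_dvd_prime_iff_eq hr (by norm_num)).1 hd))))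
  · exact Or.inr (Or.inr (Or.inr (Or.inr ((Nat.prime_dvd_prime_iff_eq hr (by norm_num)).1 hd))))

/-- **The row** -/
theorem row (h : EPS H N e) (hT : Spor.IsoFi22 T) (c2 : ∀ x : G, orderOf x = 2 → 2 ^ 56 ≤ cG x)
    (hc : ∀ r ∈ ({5, 7, 11, 13} : Finset ℕ), ∀ x : G, orderOf x = r → 2 ^ 100 ≤ cG x) : False := by
  classical
  obtain ⟨eT⟩ := hT
  have hf : Finite T := Cfsg.Agent.H805.EPX.finite_T h
  have hcT : Nat.card T = 64561751654400 := by rw [Nat.card_congr eT.toEquiv, card_fi]
  have hsp : IsSporadicGroup T := by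
    unfold IsSporadicGroup
    iterate 19 right
    left
    exact ⟨eT⟩
  have hH := Cfsg.Agent.H805.EPX.card_H h hsp (by rw [hcT])
  have hdvd : Nat.card H ∣ 2 * 64561751654400 := by
    rcases hH with h1 | h1
    · rw [h1, hcT]; exact Dvd.intro_left _ rfl
    · rw [h1, hcT]
  have hle : Nat.card H ≤ 2 * 64561751654400 := Nat.le_of_dvd (by norm_num) hdvd
  -- the index
  have hi : 3 ≤ H.index := by
    have h13 : 13 ∣ Nat.card N := by
      rw [Nat.card_congr ((e.trans (MulEquiv.funUnique (Fin 1) T)).toEquiv), hcT]; norm_num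
    have : Fact (Nat.Prime 13) := ⟨by norm_num⟩
    obtain ⟨x, hx⟩ := exists_prime_orderOf_dvd_card' 13 h13
    have h1 := hc 13 (by simp) (x : G) (by rw [Subgroup.orderOf_coe, hx])
    have h2 : cG (x : G) ≤ Nat.card G := by
      rw [cG]
      exact Nat.card_le_card_of_injective (fun y : {y : G // IsConj (x : G) y} => y.1) Subtype.val_injective
    have h5 : Nat.card H * H.index = Nat.card G := H.card_mul_index
    by_contra hcon
    push Not at hcon
    have h6 : Nat.card H * H.index ≤ (2 * 64561751654400) * 2 := Nat.mul_le_mul hle (by omega)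
    have h7 := h1.trans h2
    rw [← h5] at h7
    have h8 := h7.trans h6
    norm_num at h8
  refine dead_of_pi hi {2, 5, 7, 11, 13} ?_ ?_ (fun r => if r = 2 then 37706175 + 87283002 else 2 * 64561751654400)
    (fun r => if r = 2 then 2 ^ 56 else 2 ^ 100) ?_ ?_ ?_ ?_
  · intro r hr
    simp only [Finset.mem_insert, Finset.mem_singleton] at hr
    rcases hr with rfl | rfl | rfl | rfl | rfl <;> norm_num
  · intro g hg
    obtain ⟨r, hr, hrd⟩ := EPS.hM_odd h Nat.prime_three (by norm_num) g hg
    obtain ⟨hr3, hr'⟩ := Finset.mem_erase.1 hr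
    exact ⟨r, prime_cases (Nat.prime_of_mem_primeFactors hr') hr3 ((Nat.dvd_of_mem_primeFactors hr').trans hdvd), hrd⟩
  · intro r _
    by_cases h2 : r = 2
    · subst h2
      simp only [if_pos]
      exact card_el_two h eT hH
    · simp only [if_neg h2]
      exact card_el_le_card.trans hle
  · intro r _
    split_ifs <;> positivity
  · intro r hr x _ hx
    by_cases h2 : r = 2
    · subst h2
      simp only [if_pos]
      exact c2 x hx
    · simp only [if_neg h2]
      refine hc r ?_ x hx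
      simp only [Finset.mem_insert, Finset.mem_singleton] at hr ⊢
      tauto
  · rw [Finset.sum_insert (by simp), Finset.sum_insert (by simp), Finset.sum_insert (by simp),
      Finset.sum_insert (by simp), Finset.sum_singleton]
    norm_num

end Cfsg.Agent.H878.EPX
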