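import Cfsg.Agent.H878.EPX.E7FiRow
import Cfsg.Agent.H373.TS.ESevenThree

/-!
# S5745: no stabilizer of `E₇(3)` with socle `Fi₂₂` (helper878, with the class bounds of helper373)
-/

set_option autoImplicit false

namespace Cfsg.Agent.H878.EPX

open Cfsg Cfsg.Agent.H742.EX Cfsg.Agent.H805.EPX

theorem ce7 : CE7 := fun _ _ _ hF x => Cfsg.Agent.H373.TS.cG_ge hF x |>.imp (fun h hx => le_trans (by norm_num) (h hx)) id

/-- **the field `e7_3_Fi22`** -/
theorem e7_3_Fi22 : ∀ (F : Type) [Field F] [Fintype F] [IsSimpleGroup ↥(Lie.chevE7.group F)],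
    Fintype.card F = 3 → NoRow (fun T _ => Spor.IsoFi22 T) ↥(Lie.chevE7.group F) := e7_3_Fi22_of ce7

end Cfsg.Agent.H878.EPX
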