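import Cfsg.Agent.H14.EPX.E7Fi
import Cfsg.Agent.H602.EPX.SpRows
import Cfsg.Agent.H833.EPX.Seven
import Cfsg.Agent.H357.EP.V27
import Cfsg.Agent.H807.EPX.SuzE6
import Cfsg.Agent.H14.EPX.HN
import Cfsg.Agent.H775.EPF.TE6
import Cfsg.Agent.H440.EPX.TdJ2

/-!
# S5745: `H805.EPX.Rows` from the open rows (helper878 for helper805)

`rows_of` : open are `Th` in `E₈(2)` and `Fi₂₂` in `E₆(4)`.
-/

set_option autoImplicit false

namespace Cfsg.Agent.H878.EPX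

open Cfsg Cfsg.Agent.H805.EPX

/-- **the rows, from the two open ones** -/
theorem rows_of
    (th : ∀ (F : Type) [Field F] [Fintype F] [IsSimpleGroup ↥(Lie.chevE8.group F)], Fintype.card F = 2 →
      NoRow (fun T _ => Spor.IsoTh T) ↥(Lie.chevE8.group F))
    (fi64 : ∀ (F : Type) [Field F] [Fintype F] [IsSimpleGroup ↥(Lie.chevE6.group F)], Fintype.card F = 4 →
      NoRow (fun T _ => Spor.IsoFi22 T) ↥(Lie.chevE6.group F)) : Rows where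
  e8_2_Th := th
  e7_2_He F := by intro _ _ _ hF; exact Cfsg.Agent.H833.EPX.e7_2_He F hF
  e7_2_ON F := by intro _ _ _ hF; exact Cfsg.Agent.H833.EPX.e7_2_ON F hF
  e7_2_Suz F := by intro _ _ _ hF; exact Cfsg.Agent.H602.EPX.SpRows.e7_2_Suz F hF
  e7_2_Fi22 F := by intro _ _ _ hF; exact Cfsg.Agent.H602.EPX.SpRows.e7_2_Fi22 F hF
  e7_3_Fi22 := Cfsg.Agent.H14.EPX.e7_3_Fi22
  e6_2_He F := by intro _ _ _ hF; exact Cfsg.Agent.H833.EPX.e6_2_He F hF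
  e6_3_Suz F := by intro _ _ _ hF; exact Cfsg.Agent.H357.EP.row_suz F hF
  e6_3_Fi22 F := by intro _ _ _ hF; exact Cfsg.Agent.H357.EP.row_fi22 F hF
  e6_4_Suz F := by intro _ _ _ hF; exact Cfsg.Agent.H807.EPX.e6_4_Suz F hF
  e6_4_ON F := by intro _ _ _ hF; exact Cfsg.Agent.H833.EPX.e6_4_ON F hF
  e6_4_Fi22 := fi64
  e6_5_HN F := by intro _ _ _ hF; exact Cfsg.Agent.H14.EPX.e6_5_HN F hF
  f4_2_J2 F := by intro _ _ _ hF; exact Cfsg.Agent.H602.EPX.SpRows.f4_2_J2 F hF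
  te6_2_J2 K := by intro _ _ _ hK; exact Cfsg.Agent.H602.EPX.SpRows.te6_2_J2 K hK
  te6_2_J3 K := by intro _ _ _ hK; exact Cfsg.Agent.H602.EPX.SpRows.te6_2_J3 K hK
  te6_2_Suz K := by intro _ _ _ hK; exact Cfsg.Agent.H602.EPX.SpRows.te6_2_Suz K hK
  te6_2_Fi22 K := by intro _ _ _ hK H N T _ e h hT; exact Cfsg.Agent.H775.EPF.te6_fi22 K hK H N T e h hT
  td4_4_J2 K := by intro _ _ _ hK; exact Cfsg.Agent.H440.EPX.td4_4_J2 K hK

end Cfsg.Agent.H878.EPX
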